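import Cfsg.Agent.Lib.Fi24r.OntoA
import Cfsg.Agent.Lib.Comp.Fi24.Out
import Cfsg.Agent.Lib.Comp.F24p.Main

/-! An embedding of `Fi₂₄'` with small involution centralizers is onto. -/

namespace Cfsg.Lib.Fi24r

open Subgroup Cfsg.Lib.Fi Cfsg.Lib.Comp

section
variable {X : Type*} [Group X]

theorem card_cent_sub {L : Subgroup X} (x : L) :
    Nat.card (centralizer {x} : Subgroup L) = Nat.card ↥(L ⊓ centralizer {(x : X)}) := by
  rw [← card_map_of_injective (f := L.subtype) L.subtype_injective]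
  congr 2
  ext g
  simp only [mem_map, mem_inf, mem_centralizer_singleton_iff]
  exact ⟨by rintro ⟨y, h, rfl⟩; exact ⟨y.2, congrArg Subtype.val h⟩, fun h => ⟨⟨g, h.1⟩, Subtype.ext h.2, rfl⟩⟩

variable [Finite X] (S : S24 X)

set_option linter.unusedSectionVars false

theorem isConj_comm {x y : commutator X} (h : IsConj (x : X) y) {d : X} (hd : d ∈ S.M.D) (hc : Commute d y) :
    IsConj x y := by
  obtain ⟨g, hg⟩ := isConj_iff.1 h
  by_cases m : g ∈ commutator X
  · exact isConj_iff.2 ⟨⟨g, m⟩, Subtype.ext hg⟩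
  · refine isConj_iff.2 ⟨⟨d * g, (mul_mem_iff_of_index_two S.index_comm).2 (iff_of_false (S.not_mem_comm hd) m)⟩,
      Subtype.ext ?_⟩
    change d * g * x * (d * g)⁻¹ = y
    rw [← mul_inv_cancel_right (y : X) d, ← hc.eq, ← hg]; group

theorem fac_conj2 {t : X} {l : List X} (ht : Fac S.M.D 2 t l) : IsConj (S.M.v B24.j2) t :=
  (S.M.fac2 B24.j2_fac).2.2.2.2 ▸ (S.M.ft2 B24.t2).conj ht

theorem fac_conj4 {t : X} {l : List X} (ht : Fac S.M.D 4 t l) : IsConj (S.M.v B24.j4) t :=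
  (S.M.fac4 B24.j4_fac).2.2.2.2 ▸ (S.M.ft4 B24.t2 B24.t3 B24.t4).conj ht

theorem fac_tr {m : ℕ} {t : X} {l : List X} (ht : Fac S.M.D (m + 1) t l) : ∃ d ∈ S.M.D, Commute d t := by
  obtain ⟨-, h2, h3, h4, rfl⟩ := ht
  obtain ⟨d, hd⟩ := List.exists_mem_of_length_eq_add_one h2
  exact ⟨d, h3 d hd, Commute.list_prod_right _ _ (h4 d hd)⟩

theorem card_fac2 {t : commutator X} {l : List X} (ht : Fac S.M.D 2 (t : X) l) :
    Nat.card (centralizer {t} : Subgroup (commutator X)) = 258247006617600 := by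
  obtain ⟨d, hd, hc⟩ := fac_tr S ht
  have := S.card_inf_comm (K := centralizer {(t : X)}) hd (mem_centralizer_singleton_iff.2 hc)
  rw [← card_cent_sub, ← Invol.card_centralizer_of_isConj (fac_conj2 S ht), S.j2_eq, S.card_ab] at this
  omega

theorem card_fac4 {t : commutator X} {l : List X} (ht : Fac S.M.D 4 (t : X) l) :
    Nat.card (centralizer {t} : Subgroup (commutator X)) = 160526499840 := by
  obtain ⟨d, hd, hc⟩ := fac_tr S ht
  have := S.card_inf_comm (K := centralizer {(t : X)}) hd (mem_centralizer_singleton_iff.2 hc)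
  rw [← card_cent_sub, ← Invol.card_centralizer_of_isConj (fac_conj4 S ht), (Z24.ke S).2] at this
  omega

theorem invol_comm {t z : commutator X} {l l' : List X} (ht : Fac S.M.D 2 (t : X) l) (hz : Fac S.M.D 4 (z : X) l')
    (i : commutator X) (hi : orderOf i = 2) : IsConj i t ∨ IsConj i z := by
  have n : ∀ {t}, IsConj (i : X) t → t ∈ commutator X := fun h => by
    obtain ⟨g, rfl⟩ := isConj_iff.1 h
    exact Normal.conj_mem inferInstance _ (SetLike.coe_mem _) g
  obtain ⟨d, hd, hc⟩ := fac_tr S ht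
  obtain ⟨d', hd', hc'⟩ := fac_tr S hz
  rcases S.invol ((orderOf_coe i).trans hi) with h | h | h | h
  · exact (S.not_mem_comm (S.M.v_mem_D _) (n h)).elim
  · exact .inl (isConj_comm S (h.trans (fac_conj2 S ht)) hd hc)
  · exact (S.not_mem_comm (S.M.v_mem_D _)
      ((mul_mem_cancel_left (S.mul_mem_comm (S.M.v_mem_D _) (S.M.v_mem_D _))).1 (S.j3_eq ▸ n h))).elim
  · exact .inr (isConj_comm S (h.trans (fac_conj4 S hz)) hd' hc')

theorem onto_fac {G : Type*} [Group G] [Finite G] {φ : commutator X →* G} (hφ : Function.Injective φ)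
    {t z : commutator X} {l l' : List X} (ht : Fac S.M.D 2 (t : X) l) (hz : Fac S.M.D 4 (z : X) l')
    (c1 : Nat.card (centralizer {φ t} : Subgroup G) ≤ 258247006617600)
    (c2 : Nat.card (centralizer {φ z} : Subgroup G) ≤ 160526499840) : Function.Surjective φ :=
  onto_of hφ (by rw [← orderOf_coe, ← Invol.orderOf_of_isConj (fac_conj2 S ht), S.M.ord Nat.prime_two B24.j2_ord])
    (by rw [← orderOf_coe, ← Invol.orderOf_of_isConj (fac_conj4 S hz), S.M.ord Nat.prime_two B24.j4_ord])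
    (invol_comm S ht hz) (by rw [card_fac2 S ht, card_fac4 S hz]; norm_num) (card_fac2 S ht ▸ c1) (card_fac4 S hz ▸ c2)

end

open Fi24

theorem rl (x y k : ℕ) (h : ([x], 1) ∈ R ∧ ([y], 1) ∈ R ∧ ([x, y], k) ∈ R) :
    γ x * γ x = 1 ∧ γ y * γ y = 1 ∧ (γ x * γ y) ^ (k + 1) = 1 := by
  simpa [ev, _root_.sq] using And.intro (ok.rels hall _ h.1) (And.intro (ok.rels hall _ h.2.1) (ok.rels hall _ h.2.2))

theorem br (x y : ℕ) (h : ([x], 1) ∈ R ∧ ([y], 1) ∈ R ∧ ([x, y], 2) ∈ R) : IsConj (γ x) (γ y) := by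
  obtain ⟨a1, a2, a3⟩ := rl x y 2 h
  exact isConj_iff.2 ⟨γ x * γ y, by rw [Known2.braid_of_cube a1 a2 a3, mul_inv_eq_iff_eq_mul, mul_assoc]⟩

theorem cm (x y : ℕ) (h : ([x], 1) ∈ R ∧ ([y], 1) ∈ R ∧ ([x, y], 1) ∈ R) : Commute (γ x) (γ y) := by
  obtain ⟨a1, a2, a3⟩ := rl x y 1 h
  rw [Commute, SemiconjBy, ← inv_eq_of_mul_eq_one_right ((_root_.sq _).symm.trans a3), mul_inv_rev,
    inv_eq_of_mul_eq_one_right a1, inv_eq_of_mul_eq_one_right a2]

theorem fac_t0 : Fac (conjugatesOf (γ 12)) 2 (F24p.gq 1) [γ 1, γ 12] ∧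
    Fac (conjugatesOf (γ 12)) 4 (F24p.gq 1 * F24p.gq 3 * F24p.gq 5) [γ 1, γ 3, γ 5, γ 12] := by
  have m1 := (br 11 12 (by decide +kernel)).symm.trans (br 1 11 (by decide +kernel)).symm
  have m3 := (m1.trans (br 1 2 (by decide +kernel))).trans (br 2 3 (by decide +kernel))
  have m5 := (m3.trans (br 3 4 (by decide +kernel))).trans (br 4 5 (by decide +kernel))
  have c1 := cm 1 3 (by decide +kernel)
  have c2 := cm 1 5 (by decide +kernel)
  have c3 := cm 1 12 (by decide +kernel)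
  have c4 := cm 3 5 (by decide +kernel)
  have c5 := cm 3 12 (by decide +kernel)
  have c6 := cm 5 12 (by decide +kernel)
  obtain ⟨f, -, -, hf⟩ := faith
  have n : ∀ x y, neP tb L [x] [y] 40000 = true → γ x ≠ γ y := fun x y h => by simpa [ev] using ne_of_neP hf tb_ok h
  have n1 := n 1 3 (by decide +kernel)
  have n2 := n 1 5 (by decide +kernel)
  have n3 := n 1 12 (by decide +kernel)
  have n4 := n 3 5 (by decide +kernel)
  have n5 := n 3 12 (by decide +kernel)
  have n6 := n 5 12 (by decide +kernel)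
  have g : ∀ x ∈ [1, 3, 5], F24p.gq x = γ x * γ 12 := fun x hx => by
    rw [F24p.gq, if_neg ((by decide : ∀ x ∈ [1, 3, 5], x ≠ 12) x hx), if_pos ((by decide : ∀ x ∈ [1, 3, 5], x ∈ F24p.L) x hx)]
  refine ⟨⟨by simp [n3], rfl, ?_, by simp [c3, c3.symm], by simp [g]⟩, by simp [*], rfl, ?_, ?_, ?_⟩
  · simp only [List.forall_mem_cons]
    exact ⟨m1, IsConj.refl _, by simp⟩
  · simp only [List.forall_mem_cons]
    exact ⟨m1, m3, m5, IsConj.refl _, by simp⟩
  · simp [c1, c2, c3, c4, c5, c6, c1.symm, c2.symm, c3.symm, c4.symm, c5.symm, c6.symm]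
  · rw [g 1 (by simp), g 3 (by simp), g 5 (by simp), mul_assoc (γ 1), ← mul_assoc (γ 12), ← c5.eq, mul_assoc (γ 3),
      F24p.sq 12 (by norm_num)]
    simp [mul_assoc]

/-- An embedding of `Fi₂₄'` is onto as soon as the two involution centralizers are not larger than in `Fi₂₄'`. -/
theorem onto {G : Type*} [Group G] [Finite G] (φ : Spor.Fi24' →* G) (inj : Function.Injective φ) (t0 z0 : Spor.Fi24')
    (ht : t0.1 = F24p.gq 1) (hz : z0.1 = F24p.gq 1 * F24p.gq 3 * F24p.gq 5)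
    (c1 : Nat.card (centralizer {φ t0} : Subgroup G) ≤ 258247006617600)
    (c2 : Nat.card (centralizer {φ z0} : Subgroup G) ≤ 160526499840) : Function.Surjective φ := by
  obtain ⟨S, e⟩ := s24 Known2.fi24_t24.1.grp Known2.fi24_t24.1.prim Known2.fi24_type
  exact onto_fac S inj (ht ▸ e ▸ fac_t0.1) (hz ▸ e ▸ fac_t0.2) c1 c2

end Cfsg.Lib.Fi24r
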