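import Cfsg.Agent.Lib.Fi24r.Onto

/-! Groups with `Fi₂₄'` as a subgroup of index two with trivial centralizer. -/

namespace Cfsg.Lib.Fi24r

open Subgroup Cfsg.Lib.Fi Cfsg.Lib.Comp Cfsg.Lib.Known2

section
variable {G H : Type*} [Group G] [Group H]

theorem image_conj (e : G ≃* H) (d : G) : e '' conjugatesOf d = conjugatesOf (e d) := by
  ext y
  exact ⟨by rintro ⟨x, hx, rfl⟩; exact e.toMonoidHom.map_isConj hx,
    fun hy => ⟨e.symm y, isConj_iff.2 (by simpa using e.symm.toMonoidHom.map_isConj hy), by simp⟩⟩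

theorem corr_equiv (e : G ≃* H) {X : Set G} (h : VW X) : Corr X (e '' X) fun x y => x ∈ X ∧ e x = y :=
  Red.corr ⟨fun a _ b _ => by simp, fun a ha => by rw [← map_mul, h.tt.wt.sq ha, map_one],
    fun a _ b _ => ⟨fun c => e.injective (by simpa using c.eq), fun c => c.map e⟩, fun a _ b _ c _ => e.injective c⟩ h

theorem t24_equiv (e : G ≃* H) {X : Set G} (h : T24 X) : T24 (e '' X) :=
  have c := corr_equiv e h.1.toVW
  ⟨c.r3 h.1, fun y hy => by
    obtain ⟨x, a⟩ := c.s₂ y hy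
    exact (c.dd a).t23 (h.2 x (c.m _ _ a).1)⟩

theorem center_equiv (e : G ≃* H) (h : center H = ⊥) : center G = ⊥ := by
  refine eq_bot_iff.2 fun x hx => mem_bot.2 (e.injective ?_)
  rw [map_one, ← mem_bot, ← h, mem_center_iff]
  intro y
  rw [← e.apply_symm_apply y, ← map_mul, ← map_mul, mem_center_iff.1 hx]

/-- The centralizer of `d` modulo `d`. -/
abbrev CQ (d : G) : Type _ := ↥(centralizer ({d} : Set G)) ⧸ (zpowers d).subgroupOf (centralizer ({d} : Set G))

theorem nm (d : G) : ((zpowers d).subgroupOf (centralizer ({d} : Set G))).Normal :=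
  (normal_subgroupOf_iff (zpowers_le.2 (mem_centralizer_singleton_iff.2 rfl))).2 fun x g hx hg => by
    obtain ⟨k, rfl⟩ := mem_zpowers_iff.1 hx
    rw [((show Commute g d from mem_centralizer_singleton_iff.1 hg).zpow_right k).eq, mul_inv_cancel_right]
    exact hx

theorem cq_iso {d : G} {K : Subgroup G} (h : centralizer {d} = K) (hz : center K = (zpowers d).subgroupOf K)
    [((zpowers d).subgroupOf (centralizer ({d} : Set G))).Normal] : Nonempty (CQ d ≃* K ⧸ center K) := by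
  subst h
  exact ⟨QuotientGroup.quotientMulEquivOfEq hz.symm⟩

theorem nwc {D : Set G} [Finite G] (h : Prim D) {d : G} (hd : d ∈ D) :
    ∃ g : G, g * d * g⁻¹ ∈ centralizer ({d} : Set G) ∧ g * d * g⁻¹ ≠ d := by
  obtain ⟨x, hx⟩ := h.exists_Dd hd
  obtain ⟨g, rfl⟩ := h.prim.1 d hd x hx.1
  exact ⟨g, mem_centralizer_singleton_iff.2 hx.2.2.symm, hx.2.1⟩

theorem tilde22 [Finite G] (e : G ≃* Spor.Fi22) :
    (∃ E : Set G, IsThreeTranspositionClass E ∧ IsOfTypeM22 G E) ∧ ∃ d : G, orderOf d = 2 ∧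
      IsQuasisimple (centralizer ({d} : Set G)) ∧ (∃ (K : Type) (_ : Field K) (_ : Fintype K), Fintype.card K = 4 ∧
        ∃ _ : ((zpowers d).subgroupOf (centralizer ({d} : Set G))).Normal, Nonempty (CQ d ≃* PSU 6 K 2)) ∧
      ∃ g : G, g * d * g⁻¹ ∈ centralizer ({d} : Set G) ∧ g * d * g⁻¹ ≠ d := by
  have t := (corr_equiv e.symm fi22_t22.2.2.1.toVW).t22 fi22_t22.2.2
  rw [image_conj] at t
  have := Fi22.main.1
  have := e.isSimpleGroup
  obtain ⟨P, Z⟩ := prim_conj (by rw [Nat.card_congr e.toEquiv, Fi22.main.2]; norm_num) t.1.tt.set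
  have ht := t.type Z
  refine ⟨⟨_, P.cls, ht⟩, ?_⟩
  obtain ⟨S, h⟩ := s22 P.grp P.prim ht
  rw [← h] at ht P
  obtain ⟨F, _, _, h1, ⟨f⟩⟩ := S.quot_X1 ht
  have := Cfsg.Agent.S0283.result (q := 2) h1 6 (by norm_num) (by norm_num)
  have := nm S.a
  obtain ⟨q⟩ := cq_iso S.cent_a S.center_X1
  exact ⟨S.a, P.cls.1.1 _ (S.M.v_mem_D _), S.cent_a ▸ ⟨(S.M.perfect hI22 B22.perf1).2, f.isSimpleGroup⟩,
    ⟨F, _, _, h1, this, ⟨q.trans f⟩⟩, nwc P (S.M.v_mem_D _)⟩

theorem tilde23 [Finite G] (e : G ≃* Spor.Fi23) : ∃ t : G, orderOf t = 2 ∧ IsQuasisimple (centralizer ({t} : Set G)) ∧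
    (∃ _ : ((zpowers t).subgroupOf (centralizer ({t} : Set G))).Normal, Nonempty (CQ t ≃* Spor.Fi22)) ∧
    (∃ g : G, g * t * g⁻¹ ∈ centralizer ({t} : Set G) ∧ g * t * g⁻¹ ≠ t) ∧
    IsThreeTranspositionClass (conjugatesOf t) ∧ IsOfTypeM23 G (conjugatesOf t) := by
  have t := (corr_equiv e.symm fi23_t23.2.2.1.toVW).t23 fi23_t23.2.2
  rw [image_conj] at t
  have := Fi23.main.1
  have := e.isSimpleGroup
  obtain ⟨P, Z⟩ := prim_conj (by rw [Nat.card_congr e.toEquiv, Fi23.main.2]; norm_num) t.1.tt.set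
  have ht := t.type Z
  obtain ⟨S, h⟩ := s23 P.grp P.prim ht
  obtain ⟨T, h', hT⟩ := S.pt1 (h ▸ mem_conjugatesOf_self : e.symm (Fi23.γ 1) ∈ S.M.D)
  have hD := h'.trans h
  rw [← hT] at ht P t hD
  have := nm T.a
  obtain ⟨q⟩ := cq_iso T.cent_a T.center_X1
  obtain ⟨f⟩ := quot22 (t.2 _ mem_conjugatesOf_self)
  rw [← hD] at f
  exact ⟨T.a, P.cls.1.1 _ mem_conjugatesOf_self, T.cent_a ▸ T.qs_X1 (hD ▸ t),
    ⟨this, ⟨(q.trans (quot_center_congr T.cl_Dd.symm)).trans f⟩⟩, nwc P mem_conjugatesOf_self, P.cls, ht⟩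

theorem s24_of_iso [Finite G] (e : G ≃* Spor.Fi24) :
    ∃ S : S24 G, IsThreeTranspositionClass S.M.D ∧ IsOfTypeM24 G S.M.D := by
  obtain ⟨M, h⟩ := exists_m24
  have k : (M.map e.symm).D = e.symm '' conjugatesOf (Fi24.γ 12) := by
    change (fun p => e.symm (M.τ p)) '' _ = _
    rw [← Set.image_image e.symm M.τ]
    exact congrArg _ h
  have t := t24_equiv e.symm fi24_t24.2.2.1
  have g : closure (e.symm '' conjugatesOf (Fi24.γ 12)) = ⊤ := by
    rw [← e.symm.coe_toMonoidHom, ← MonoidHom.map_closure, fi24_t24.1.grp.2.2, map_top_of_surjective _ e.symm.surjective]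
  refine ⟨⟨M.map e.symm, ⟨e⟩, k ▸ t, k ▸ g⟩, ?_⟩
  dsimp only
  rw [k]
  exact ⟨⟨t.1.tt.set, ⟨_, ⟨_, mem_conjugatesOf_self, rfl⟩, image_conj _ _⟩, g⟩, t.type g (center_equiv e fi24_t24.2.1)
    (by rw [Set.ncard_image_of_injective _ e.symm.injective, fi24_t24.2.2.2]) ((Nat.card_congr e.toEquiv).trans Fi24.card24)⟩

theorem conj_inj : Function.Injective (MulAut.conjNormal : Spor.Fi24 →* MulAut Spor.Fi24') := by
  have := Fi24.simple'
  refine (MonoidHom.ker_eq_bot_iff _).1 (by_contra fun k => ?_)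
  have c := center_eq_bot (Γ := Spor.Fi24') (by rw [Fi24.card24']; norm_num)
  have : ⊤ ≤ center Spor.Fi24' := fun x _ => mem_center_iff.2 fun y => by
    have := DFunLike.congr_fun (Fi24.comm_le _ inferInstance k x.2) y
    rw [MulAut.conjNormal_val, MulAut.conj_apply, mul_inv_eq_iff_eq_mul] at this
    exact this.symm
  exact top_ne_bot (le_bot_iff.1 (c ▸ this))

theorem iso24 [Finite G] {G₀ : Subgroup G} (hi : G₀.index = 2) (ψ : G₀ ≃* Spor.Fi24')
    (hc : centralizer (G₀ : Set G) ≤ G₀) : Nonempty (G ≃* Spor.Fi24) ∧ G₀ = commutator G := by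
  have := Fi24.simple'
  have := normal_of_index_eq_two hi
  have c := center_equiv ψ (center_eq_bot (Γ := Spor.Fi24') (by rw [Fi24.card24']; norm_num))
  let θ := MulEquiv.ofBijective _ ⟨conj_inj, fun α => (Fi24.aut_eq α).imp fun _ h => h.symm⟩
  let f := (θ.symm.toMonoidHom.comp (MulAut.congr ψ).toMonoidHom).comp (MulAut.conjNormal : G →* MulAut G₀)
  have hf : Function.Injective f := (θ.symm.injective.comp (MulAut.congr ψ).injective).comp
    ((injective_iff_map_eq_one (MulAut.conjNormal : G →* MulAut G₀)).2 fun x hx => by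
      have k : x ∈ centralizer (G₀ : Set G) := fun y hy => by
        have := congrArg Subtype.val (DFunLike.congr_fun hx ⟨y, hy⟩)
        rw [MulAut.conjNormal_apply, mul_inv_eq_iff_eq_mul] at this
        exact this.symm
      have : (⟨x, hc k⟩ : G₀) ∈ center G₀ := mem_center_iff.2 fun y => Subtype.ext (k y y.2)
      rw [c, mem_bot] at this
      exact congrArg Subtype.val this)
  have c0 := (Nat.card_congr ψ.toEquiv).trans Fi24.card24'
  have c1 := G₀.card_mul_index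
  rw [hi, c0] at c1
  have e := MulEquiv.ofBijective f ((Nat.bijective_iff_injective_and_card f).2 ⟨hf, by rw [← c1, Fi24.card24]⟩)
  obtain ⟨S, -⟩ := s24_of_iso e
  refine ⟨⟨e⟩, (eq_of_le_of_card_ge ?_ (by rw [c0, S.card_comm])).symm⟩
  rw [commutator_def, commutator_le]
  intro a _ b _
  simp only [commutatorElement_def, mul_mem_iff_of_index_two hi, inv_mem_iff]
  tauto

theorem cent_le_of_fstar {G₀ : Subgroup G} (hi : G₀.index = 2) {z : G}
    (h : (generalizedFittingSubgroup (centralizer ({z} : Set G))).map (Subgroup.subtype _) ≤ G₀) :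
    centralizer (G₀ : Set G) ≤ G₀ := fun x hx => by_contra fun n => by
  have k : ∀ g, g * x = x * g := fun g => by
    by_cases m : g ∈ G₀
    · exact hx g m
    · have := hx _ ((mul_mem_iff_of_index_two hi).2 (iff_of_false m n))
      rwa [← mul_assoc, mul_left_inj] at this
  exact n (h ⟨⟨x, mem_centralizer_singleton_iff.2 (k z).symm⟩,
    Layer.fit_le_fstar (Core.center_le_fitting (mem_center_iff.2 fun y => Subtype.ext (k y))), rfl⟩)

variable [Finite G] (S : S24 G)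

theorem exists_tr {z : G} (hz : orderOf z = 2) : ∃ d ∈ S.M.D, Commute d z := by
  have k : ∀ {m t l}, Fac S.M.D (m + 1) t l → IsConj z t → ∃ d ∈ S.M.D, Commute d z := fun h c => by
    obtain ⟨g, rfl⟩ := isConj_iff.1 c.symm
    exact fac_tr S (Md.Fac.conj h g)
  rcases S.invol hz with h | h | h | h
  exacts [k (S.M.fac1 _) h, k (S.M.fac2 B24.j2_fac) h, k (S.M.fac3 B24.j3_fac) h, k (S.M.fac4 B24.j4_fac) h]

theorem iso23 {d : G} (hd : d ∈ S.M.D) : Nonempty (↥(commutator G ⊓ centralizer {d}) ≃* Spor.Fi23) := by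
  obtain ⟨T, -, rfl⟩ := S.pt1 hd
  have hX := T.t24.2 _ (T.M.v_mem_D B24.Ua)
  obtain ⟨e, -⟩ := hX.qx.iso (closure_mkq _) hX.1.toVW.center_QX
  obtain ⟨-, -, ⟨p⟩⟩ := T.even_part (fun x hx => hx.1) hX.1.tr hX.1.ne T.cl_Dd (T.M.v_mem_D _)
    (T.a_mem (T := {T.a}) (by simp) (by simp))
  have q := (p.trans (quot_center_congr T.cl_Dd.symm)).trans e
  have c := T.card_inf_comm (K := centralizer {T.a}) (T.M.v_mem_D B24.Ua) (mem_centralizer_singleton_iff.2 rfl)
  rw [← T.M.st_pt, (B24.K1 T).2, T.M.st_pt] at c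
  have c2 := card_eq_card_quotient_mul_card_subgroup (center ↥(commutator G ⊓ centralizer {T.a}))
  rw [Nat.card_congr q.toEquiv, Fi23.main.2] at c2
  have : center ↥(commutator G ⊓ centralizer {T.a}) = ⊥ := (eq_bot_iff_card _).2 (by
    rw [c2] at c
    generalize Nat.card (center ↥(commutator G ⊓ centralizer {T.a})) = n at c ⊢
    omega)
  exact ⟨((QuotientGroup.quotientBot.symm.trans (QuotientGroup.quotientMulEquivOfEq this.symm))).trans q⟩

end

end Cfsg.Lib.Fi24r
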