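import Cfsg.Agent.Lib.Fi24r.PM1
import Cfsg.Agent.Lib.Fi24r.Cor
import Cfsg.Agent.Lib.Fi.A23a

/-! An embedding of `Fi₂₄'` from an embedding of `Fi₂₃` and an element of order three. -/

set_option maxRecDepth 100000

namespace Cfsg.Lib.Fi24r

open Subgroup Cfsg.Lib.Fi Cfsg.Lib.Comp Cfsg.Lib.Known2

/-- An involution with centralizer of order two inverts everything outside its class. -/
theorem inv_of_cent_two {H : Type*} [Group H] [Finite H] {t : H} (ht : orderOf t = 2)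
    (hc : centralizer {t} ≤ zpowers t) (x : H) : x ^ 2 = 1 ∨ (t * x) ^ 2 = 1 := by
  have e : centralizer {t} = zpowers t := le_antisymm hc (zpowers_le.2 (mem_centralizer_singleton_iff.2 rfl))
  have t2 := Invol.mul_self_of_two ht
  have o : ∀ {y}, y ∈ conjugatesOf t → orderOf y = 2 := fun h => Invol.orderOf_of_isConj h ▸ ht
  have c1 : (conjugatesOf t).ncard * 2 = Nat.card H := by
    rw [← Nat.card_coe_set_eq, card_conjugatesOf, ← (centralizer {t}).index_mul_card, e, Nat.card_zpowers, ht]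
  have d : Disjoint (conjugatesOf t) ((t * ·) '' conjugatesOf t) := Set.disjoint_left.2 fun y hy ⟨s, hs, h⟩ => by
    have y2 := Invol.inv_of_two (o hy)
    rw [← h, mul_inv_rev, Invol.inv_of_two (o hs), Invol.inv_of_two ht] at y2
    have := Invol.eq_of_mem_zpowers (hc (mem_centralizer_singleton_iff.2 y2)) (mem_zpowers t) (o hs) ht
    subst this
    exact Invol.ne_one_of_two (o hy) (h.symm.trans t2)
  have u := Set.eq_of_subset_of_ncard_le (Set.subset_univ (conjugatesOf t ∪ (t * ·) '' conjugatesOf t)) (by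
    rw [Set.ncard_union_eq d, Set.ncard_image_of_injective _ (mul_right_injective t), Set.ncard_univ]; omega)
  rcases u.ge (Set.mem_univ x) with h | ⟨s, hs, rfl⟩
  · exact .inl (Invol.sq_of_two (o h))
  · exact .inr (by rw [← mul_assoc, t2, one_mul]; exact Invol.sq_of_two (o hs))

theorem card_cent13 {a : Spor.Fi23} (ha : orderOf a = 13) : Nat.card (centralizer {a} : Subgroup Spor.Fi23) = 78 := by
  obtain ⟨S, -⟩ := s23 fi23_t23.1.grp fi23_t23.1.prim (fi23_t23.2.2.type fi23_t23.2.1)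
  obtain ⟨g, hg⟩ := one_class (S.M.ord (by norm_num) A23.e13_ord) (by norm_num) S.card (by norm_num) (zpowers a)
    (by rw [Nat.card_zpowers, ha])
  rw [← ((A23.e13_c S).cent (S.M.fixIs A23.e13_fix)).2, ← Core.centralizer_zpowers (S.M.v _), ← hg,
    MonoidHom.map_zpowers, Core.centralizer_zpowers]
  exact Invol.card_centralizer_of_isConj (isConj_iff.2 ⟨g, rfl⟩)

theorem cent_le_zpowers {H : Type*} [Group H] [Finite H] {a v e y : H} (ha : orderOf a = 13) (hv : orderOf v = 2)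
    (hc : Nat.card (centralizer {a} : Subgroup H) = 78) (c1 : Commute v a) (c2 : Commute v e) (c3 : Commute y a)
    (n1 : ¬ Commute y v) (n2 : ¬ Commute a e) : centralizer {a} ⊓ centralizer {v} ⊓ centralizer {e} ≤ zpowers v := by
  have m := @mem_centralizer_singleton_iff H _
  have d1 : 13 ∣ Nat.card ↥(centralizer {a} ⊓ centralizer {v} : Subgroup H) :=
    ha ▸ orderOf_dvd_natCard _ ⟨m.2 rfl, m.2 c1.symm⟩
  have d2 : 2 ∣ Nat.card ↥(centralizer {a} ⊓ centralizer {v} : Subgroup H) :=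
    hv ▸ orderOf_dvd_natCard _ ⟨m.2 c1, m.2 rfl⟩
  have d3 := hc ▸ card_dvd_of_le (inf_le_left (a := centralizer {a}) (b := centralizer {v}))
  have d4 : Nat.card ↥(centralizer {a} ⊓ centralizer {v} : Subgroup H) ≠ 78 := fun h =>
    n1 (m.1 ((eq_of_le_of_card_ge inf_le_left (hc.trans h.symm).le).ge (m.2 c3)).2)
  have d5 : Nat.card ↥(centralizer {a} ⊓ centralizer {v} : Subgroup H) = 26 := by
    have := Nat.le_of_dvd (by norm_num) d3
    generalize Nat.card ↥(centralizer {a} ⊓ centralizer {v} : Subgroup H) = n at *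
    interval_cases n <;> simp_all
  have l : zpowers v ≤ centralizer {a} ⊓ centralizer {v} ⊓ centralizer {e} := zpowers_le.2 ⟨⟨m.2 c1, m.2 rfl⟩, m.2 c2⟩
  have d6 := card_dvd_of_le l
  have d7 := d5 ▸ card_dvd_of_le (inf_le_left (a := centralizer {a} ⊓ centralizer {v}) (b := centralizer {e}))
  have d8 : Nat.card ↥(centralizer {a} ⊓ centralizer {v} ⊓ centralizer {e} : Subgroup H) ≠ 26 := fun h =>
    n2 (m.1 ((eq_of_le_of_card_ge inf_le_left (d5.trans h.symm).le).ge ⟨m.2 rfl, m.2 c1.symm⟩).2)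
  refine (eq_of_le_of_card_ge l ?_).ge
  rw [Nat.card_zpowers, hv] at *
  have := Nat.le_of_dvd (by norm_num) d7
  generalize Nat.card ↥(centralizer {a} ⊓ centralizer {v} ⊓ centralizer {e} : Subgroup H) = n at *
  interval_cases n <;> simp_all

open Fi23 Fi24

def cv : List ℕ := [1,2,3,4,5,6,7,10,8,9,4,8,5,6,3,4,5,2,3,4,8,9,6,3,4,5,2,3,4,8,7,6,5,4,3,2]
def wa : List ℕ := [2,3,8,9,10,7,2,8,3,6,9,4,5,10,9,8,3,2]
def wy : List ℕ := [7,6,5,4,8,3,4,5,6,7,10,2,3,4,8,5,6,4,5,3,4,8,7,6,5,4,3,1,2,1,2,1,3,4,5,6,7,8,4,3,5,4,6,5,8,4,3,2,10,7,6,5,4,3,8,4,5,6,7]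
def we : List ℕ := [2,3,5,9,8,3,4,8,5,4,3,6,2,7,8,10,4,3,4,8,5,4,3,6,2,7,8,10,4,3,4,8,5,4,3,6,2,7,8,10,4,3,4,8,5,4,3,6,2,7,8,10,4,3,4,8,5,4,3,6,2,7,8,10,4,3,4,8,5,4,3,6,2,7,8,10,4,8,9,5,3,2]
def cw : List ℕ := [1,2,3,4,5,6,7,10,8,9,6,5,2,3,4,8,5,6,3,4,5,2,3,4,8,9,6,3,4,5,2,3,4,8,7,6,5,4,3,2]

theorem model : IsConj (Fi23.γ 1) (ev Fi23.γ vw) ∧ IsConj (Fi23.γ 1) (ev Fi23.γ vw * ev Fi23.γ we) ∧ ev Fi23.γ we ≠ 1 ∧
    Commute (ev Fi23.γ vw) (ev Fi23.γ wa) ∧ Commute (ev Fi23.γ vw) (ev Fi23.γ we) ∧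
    centralizer {ev Fi23.γ wa} ⊓ centralizer {ev Fi23.γ vw} ⊓ centralizer {ev Fi23.γ we} ≤ zpowers (ev Fi23.γ vw) := by
  obtain ⟨f, hi, -, hf⟩ := Fi23.faith
  have eq : ∀ u w, eqP tb0 [0, 1, 2, 3, 11511, 3511] Fi23.L u 1 w = true → ev Fi23.γ u = ev Fi23.γ w := fun u w h =>
    (pow_one _).symm.trans (eq_of_base hi hf Fi23.base tb0_ok h)
  have cj : ∀ c w, eqP tb0 [0, 1, 2, 3, 11511, 3511] Fi23.L (apd c [1]) 1 (apd w c) = true →
      IsConj (Fi23.γ 1) (ev Fi23.γ w) := fun c w h => isConj_iff.2 ⟨ev Fi23.γ c, by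
    have := eq _ _ h
    rwa [apd_eq, apd_eq, ev_append, ev_append, ev_single, ← mul_inv_eq_iff_eq_mul] at this⟩
  have cm : ∀ u w, eqP tb0 [0, 1, 2, 3, 11511, 3511] Fi23.L (apd u w) 1 (apd w u) = true →
      Commute (ev Fi23.γ u) (ev Fi23.γ w) := fun u w h => by
    have := eq _ _ h
    rwa [apd_eq, apd_eq, ev_append, ev_append] at this
  have nc : ∀ u w p, neP tb0 Fi23.L (apd u w) (apd w u) p = true → ¬ Commute (ev Fi23.γ u) (ev Fi23.γ w) := fun u w p h => by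
    have := ne_of_neP hf tb0_ok h
    rwa [apd_eq, apd_eq, ev_append, ev_append] at this
  have h1 := cj cv vw (by decide +kernel)
  have h2 := cj cw (apd vw we) (by decide +kernel)
  rw [apd_eq, ev_append] at h2
  have c1 := cm vw wa (by decide +kernel)
  have c2 := cm vw we (by decide +kernel)
  have : Fact (Nat.Prime 13) := ⟨by norm_num⟩
  have o : orderOf (ev Fi23.γ wa) = 13 := orderOf_eq_prime (eq_of_base hi hf Fi23.base tb0_ok (w := []) (by decide +kernel))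
    (ne_of_neP hf tb0_ok (w := []) (p := 0) (by decide +kernel))
  exact ⟨h1, h2, ne_of_neP hf tb0_ok (w := []) (p := 0) (by decide +kernel), c1, c2,
    cent_le_zpowers o (fi23_t23.1.cls.1.1 _ h1) (card_cent13 o) c1 c2 (cm wy wa (by decide +kernel))
      (nc _ _ 0 (by decide +kernel)) (nc _ _ 0 (by decide +kernel))⟩

theorem ev_inv {G : Type*} [Group G] {δ : ℕ → G} {u : G} {w : List ℕ} (h : ∀ x ∈ w, δ x * u = u⁻¹ * δ x) :
    ev δ w * u = (if Even w.length then u else u⁻¹) * ev δ w := by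
  induction w with
  | nil => simp [ev_nil]
  | cons x t ih =>
    have a := h x List.mem_cons_self
    have b : δ x * u⁻¹ = u * δ x := by rw [mul_inv_eq_iff_eq_mul, mul_assoc, a, mul_inv_cancel_left]
    rw [ev_cons, mul_assoc, ih fun y hy => h y (List.mem_cons_of_mem _ hy), ← mul_assoc, ← mul_assoc, List.length_cons]
    by_cases e : Even t.length <;> simp [e, Nat.even_add_one, a, b]

theorem PM {G : Type*} [Group G] [Finite G] (f : Spor.Fi23 →* G) (hf : Function.Injective f) (u : G) (hu : u ^ 3 = 1)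
    (h2 : ∀ x ∈ [2,3,4,5,6,7,8,9,10], (f (Fi23.γ x) * u) ^ 2 = 1) (h1 : (f (Fi23.γ 1) * u) ^ 3 = 1)
    (HC : ∀ p w, IsConj (Fi23.γ 1) p → IsConj (Fi23.γ 1) w → p ≠ w → Commute p w → centralizer {f p, f w} ≤ f.range) :
    ∃ φ : Spor.Fi24' →* G, Function.Injective φ ∧ (∀ x ∈ [1,2,3,4,5,6,7,8,9,10], ∀ h, φ ⟨F24p.gq x, h⟩ = f (Fi23.γ x)) ∧
      ∀ h, φ ⟨F24p.gq 11, h⟩ = u := by
  have sq : ∀ x < 64, f (Fi23.γ x) * f (Fi23.γ x) = 1 := fun x hx => by
    rw [← map_mul, show Fi23.γ x * Fi23.γ x = 1 from mul_eq_one_iff_eq_inv.2 (Fi23.ok.ivOK.2 x hx).2, map_one]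
  have inv : ∀ {t : G}, t * t = 1 → (t * u) ^ 2 = 1 → t * u = u⁻¹ * t := fun {t} a b => by
    rw [← inv_eq_of_mul_eq_one_right ((pow_two _).symm.trans b), mul_inv_rev, inv_eq_of_mul_eq_one_right a]
  have cu : ∀ w : List ℕ, (∀ x ∈ w, x ∈ [2,3,4,5,6,7,8,9,10]) → Even w.length → f (ev Fi23.γ w) * u = u * f (ev Fi23.γ w) :=
    fun w hw e => by
      rw [map_ev_of_gen (δ := fun x => f (Fi23.γ x)) fun _ _ => rfl, ev_inv fun x hx => inv (sq x ((by decide : ∀ x ∈ [2,3,4,5,6,7,8,9,10], x < 64) x (hw x hx))) (h2 x (hw x hx)),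
        if_pos e]
  obtain ⟨m1, m2, m3, m4, m5, m6⟩ := model
  generalize hv : ev Fi23.γ vw = v at *
  have v2 : orderOf (f v) = 2 := (orderOf_injective f hf v).trans (fi23_t23.1.cls.1.1 _ m1)
  have hvu : (f v * u) ^ 2 = 1 := by
    let C := centralizer {f (ev Fi23.γ wa), f (ev Fi23.γ we)}
    have a1 : f v ∈ C := by
      rintro _ (rfl | rfl)
      exacts [(m4.map f).symm, (m5.map f).symm]
    have a2 : u ∈ C := by
      rintro _ (rfl | rfl)
      exacts [cu _ (by decide) (by decide), cu _ (by decide) (by decide)]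
    rcases inv_of_cent_two (t := (⟨_, a1⟩ : C)) (by rw [← orderOf_coe]; exact v2) (fun x hx => by
      have b1 : Commute (f v) x := (congrArg Subtype.val (mem_centralizer_singleton_iff.1 hx)).symm
      have b2 : Commute (f (ev Fi23.γ wa)) x := x.2 _ (by simp)
      have b3 : Commute (f (ev Fi23.γ we)) x := x.2 _ (by simp)
      obtain ⟨y, hy⟩ := HC _ _ m1 m2 (by simpa using m3) ((Commute.refl _).mul_right m5) (x := x) (by
        rintro _ (rfl | rfl)
        exacts [b1, map_mul f _ _ ▸ b1.mul_left b3])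
      have k : ∀ {s}, Commute (f s) x → y ∈ centralizer {s} := fun h => mem_centralizer_singleton_iff.2 (hf (by
        rw [map_mul, map_mul, hy, h.eq]))
      obtain ⟨n, rfl⟩ := mem_zpowers_iff.1 (m6 ⟨⟨k b2, k b1⟩, k b3⟩)
      exact mem_zpowers_iff.2 ⟨n, Subtype.ext (by simpa using hy)⟩) ⟨u, a2⟩ with h | h
    · have : u = 1 := by rw [← hu, pow_succ, show u ^ 2 = 1 from congrArg Subtype.val h, one_mul]
      rw [this, mul_one, Invol.sq_of_two v2]
    · exact congrArg Subtype.val h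
  let δ : ℕ → G := fun x => if x = 11 then u else if x = 12 then u⁻¹ else if x ∈ Fi23.L then f (Fi23.γ x) else 1
  have hδ : ∀ x ∈ Fi23.L, δ x = f (Fi23.γ x) := fun x hx => by
    have := (by decide : ∀ x ∈ Fi23.L, x ≠ 11 ∧ x ≠ 12) x hx
    simp only [δ, if_neg this.1, if_neg this.2, if_pos hx]
  have hw : ∀ w : List ℕ, (∀ x ∈ w, x ∈ Fi23.L) → ev δ w = f (ev Fi23.γ w) := fun w hw =>
    (map_ev_of_gen fun x hx => (hδ x (hw x hx)).symm).symm
  have i1 : IvOK δ F24p.iv := ⟨rfl, fun x hx => ⟨(by decide : ∀ x < 64, F24p.iv x < 64) x hx, by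
    rcases (by decide : ∀ x < 64, x = 11 ∨ x = 12 ∨ (F24p.iv x = x ∧ x ≠ 11 ∧ x ≠ 12)) x hx with rfl | rfl | ⟨a, b, c⟩
    · rfl
    · exact (inv_inv u).symm
    · rw [a, eq_inv_iff_mul_eq_one]
      simp only [δ, if_neg b, if_neg c]
      split_ifs
      exacts [sq x hx, one_mul _]⟩⟩
  have i2 : Rels δ (Fi23.R ++ N_R1) := Rels.append (fun r hr => by
      rw [hw _ (sub_of_allR (by decide +kernel) r hr), ← map_pow, Fi23.ok.rels Fi23.hall r hr, map_one]) (by
    have d11 : δ 11 = u := rfl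
    have d12 : δ 12 = u⁻¹ := rfl
    have k : ∀ x ∈ [2,3,4,5,6,7,8,9,10], ev δ [x, 11] ^ (1 + 1) = 1 := fun x hx => by
      rw [ev_cons, ev_single, hδ x ((by decide : ∀ x ∈ [2,3,4,5,6,7,8,9,10], x ∈ Fi23.L) x hx)]; exact h2 x hx
    have a := sq 1 (by norm_num)
    have b := inv (Invol.mul_self_of_two v2) hvu
    simp only [List.forall_mem_cons] at k
    obtain ⟨k2, k3, k4, k5, k6, k7, k8, k9, k10, -⟩ := k
    simp only [Rels, N_R1, List.forall_mem_cons]
    refine ⟨by rw [ev_single]; exact hu, k2, k3, k4, k5, k6, k7, k8, k9, k10, ?_, ?_, ?_, ?_, ?_, by simp⟩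
    · rw [ev_cons, ev_single, hδ 1 (by decide)]; exact h1
    · rw [ev_cons, ev_single, hδ 1 (by decide), d12, ← inv_eq_one, ← inv_pow, mul_inv_rev, inv_inv,
        inv_eq_of_mul_eq_one_right a, ← mul_inv_cancel_right (u * _) u, mul_assoc u, conj_pow, h1]
      simp
    · rw [ev_cons, ev_single, d11, d12]; simp
    · rw [ev_append, ev_single, hw _ (by decide), hv]; exact hvu
    · rw [ev_append, ev_single, hw _ (by decide), hv, d12, pow_two, ← mul_assoc, mul_assoc (f v), ← b, ← mul_assoc,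
        Invol.mul_self_of_two v2]
      simp)
  obtain ⟨ψ, hψ⟩ := hom_of_ord N_ord' F24p.gq_iv N_gq i1 i2 F24p.card.ge
  let φ : Spor.Fi24' →* G := ψ.comp (MulEquiv.subgroupCongr F24p.cl_eq.symm).toMonoidHom
  have e : ∀ x ∈ F24p.L, ∀ h, φ ⟨F24p.gq x, h⟩ = δ x := fun x hx h => by
    have := hψ [x] (by simpa using hx)
    simp only [ev_single] at this
    exact this
  have := Fi24.simple'
  refine ⟨φ, (MonoidHom.ker_eq_bot_iff φ).1 ((IsSimpleGroup.eq_bot_or_eq_top_of_normal _ inferInstance).resolve_right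
    fun h => ?_), fun x hx h => (e x ((by decide : ∀ x ∈ Fi23.L, x ∈ F24p.L) x hx) h).trans (hδ x hx), e 11 (by decide)⟩
  have := e 1 (by decide) (F24p.cl_eq.le (mem_cl (by decide)))
  rw [MonoidHom.mem_ker.1 (h.ge (mem_top _)), hδ 1 (by decide), eq_comm, map_eq_one_iff f hf] at this
  exact fi23_t23.1.tt.ne_one mem_conjugatesOf_self this

end Cfsg.Lib.Fi24r
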