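import Cfsg.Agent.Lib.Known2.Invol
import Cfsg.Agent.Lib.Invol.Sylow2

/-! An embedding that preserves the orders of the centralizers of two classes of involutions is onto. -/

namespace Cfsg.Lib.Fi24r

open Subgroup

variable {L G : Type*} [Group L] [Group G]

theorem cent_map_eq [Finite G] {φ : L →* G} (hφ : Function.Injective φ) {t : L}
    (c : Nat.card (centralizer {φ t} : Subgroup G) ≤ Nat.card (centralizer {t} : Subgroup L)) :
    (centralizer {t}).map φ = centralizer {φ t} := by
  refine eq_of_le_of_card_ge ?_ (by rwa [card_map_of_injective hφ])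
  rintro _ ⟨x, hx, rfl⟩
  rw [mem_centralizer_singleton_iff, ← map_mul, ← map_mul, mem_centralizer_singleton_iff.1 hx]

theorem onto_of [Finite G] {φ : L →* G} (hφ : Function.Injective φ) {t z : L} (t2 : orderOf t = 2) (z2 : orderOf z = 2)
    (hcl : ∀ i : L, orderOf i = 2 → IsConj i t ∨ IsConj i z)
    (ne : Nat.card (centralizer {t} : Subgroup L) ≠ Nat.card (centralizer {z} : Subgroup L))
    (c1 : Nat.card (centralizer {φ t} : Subgroup G) ≤ Nat.card (centralizer {t} : Subgroup L))
    (c2 : Nat.card (centralizer {φ z} : Subgroup G) ≤ Nat.card (centralizer {z} : Subgroup L)) :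
    Function.Surjective φ := by
  have e1 := cent_map_eq hφ c1
  have e2 := cent_map_eq hφ c2
  have nc : ¬ IsConj (φ t) (φ z) := fun h => ne (by
    rw [← card_map_of_injective hφ, ← card_map_of_injective (K := centralizer {z}) hφ, e1, e2,
      Invol.card_centralizer_of_isConj h])
  have k : ∀ {s : L}, (centralizer {s}).map φ = centralizer {φ s} → ∀ {i : L} {g : G}, IsConj i s →
      g * φ s * g⁻¹ = φ i → g ∈ φ.range := fun {s} e i g h' hg => by
    obtain ⟨h, rfl⟩ := isConj_iff.1 h'
    have : φ h * g ∈ centralizer {φ (h * i * h⁻¹)} := by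
      rw [mem_centralizer_singleton_iff, mul_assoc, mul_inv_eq_iff_eq_mul.1 hg]; simp [mul_assoc]
    rw [← e] at this
    exact (mul_mem_cancel_left (show φ h ∈ φ.range from ⟨h, rfl⟩)).1 (map_le_range _ _ this)
  have cen : ∀ i : L, orderOf i = 2 → ∀ g, g * φ i = φ i * g → g ∈ φ.range := fun i hi g hg => by
    have k2 : ∀ {s : L}, (centralizer {s}).map φ = centralizer {φ s} → IsConj i s → g ∈ φ.range := fun {s} e h' => by
      obtain ⟨h, rfl⟩ := isConj_iff.1 h'
      have := k e (g := g * (φ h)⁻¹) h' (by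
        rw [← mul_inv_cancel_right (φ i) g, ← hg, map_mul, map_mul, map_inv]; group)
      exact (mul_mem_cancel_right (show (φ h)⁻¹ ∈ φ.range from ⟨h⁻¹, map_inv _ _⟩)).1 this
    exact (hcl i hi).elim (k2 e1) (k2 e2)
  intro g
  have a2 : φ t * φ t = 1 := by rw [← map_mul, Invol.mul_self_of_two t2, map_one]
  have o : orderOf (g * φ z * g⁻¹) = 2 := by rw [Invol.orderOf_conj, orderOf_injective φ hφ, z2]
  have b2 := Invol.mul_self_of_two o
  rcases Nat.even_or_odd (orderOf (φ t * (g * φ z * g⁻¹))) with ⟨m, hm⟩ | ho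
  · have hpos := orderOf_pos (φ t * (g * φ z * g⁻¹))
    have h1 : (φ t * (g * φ z * g⁻¹)) ^ (2 * m) = 1 := by rw [two_mul, ← hm, pow_orderOf_eq_one]
    have hz1 : (φ t * (g * φ z * g⁻¹)) ^ m ≠ 1 := pow_ne_one_of_lt_orderOf (by omega) (by omega)
    obtain ⟨w, hw⟩ := cen t t2 _ (Known2.commute_half_left a2 b2 _ h1).symm.eq
    have w2 : orderOf w = 2 := by
      rw [← orderOf_injective φ hφ, hw]
      exact Invol.two_of_mul_self (by rw [← pow_add, ← two_mul, h1]) hz1
    obtain ⟨i, hi⟩ := cen w w2 _ (hw ▸ (Known2.commute_half_right a2 b2 _ h1).eq)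
    rcases hcl i (by rw [← orderOf_injective φ hφ, hi, o]) with h | h
    · exact (nc ((φ.map_isConj h).symm.trans (hi ▸ (Invol.isConj_conj g _).symm))).elim
    · exact k e2 h hi.symm
  · obtain ⟨m, hm⟩ := Known2.conj_of_odd_orderOf a2 b2 ho
    exact (nc ((Invol.isConj_conj g _).trans (isConj_iff.2 ⟨_, hm⟩)).symm).elim

end Cfsg.Lib.Fi24r
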