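import Cfsg.Agent.Lib.Comp.F24p.Main

/-! The presentation of `Fi₂₄'` with the central word replaced by `(v k)² = 1`. -/

set_option maxRecDepth 100000
set_option Elab.async false

namespace Cfsg.Lib.Comp.Fi24

universe u

def vw : List ℕ := [1,2,3,4,5,6,7,10,8,9,4,8,5,6,3,4,5,2,3,4,8,9,6,3,4,5,2,3,4,8,7,6,5,4,3,2,1,2,3,4,5,6,7,8,4,3,2,5,4,3,6,9,8,4,3,2,5,4,3,6,5,8,4,9,8,10,7,6,5,4,3,2,1]

def Rn : List (List ℕ × ℕ) := [([1,2,3,4,5,6,7,10,8,9,4,8,5,6,3,4,5,2,3,4,8,9,6,3,4,5,2,3,4,8,7,6,5,4,3,2,1,2,3,4,5,6,7,8,4,3,2,5,4,3,6,9,8,4,3,2,5,4,3,6,5,8,4,9,8,10,7,6,5,4,3,2,1,11], 1)]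

theorem run_nil (N : ℕ) (nets : List Net) (tb : ℕ → ℕ → ℕ) (iv : ℕ → ℕ) (Rv Rs Rs' : List (List ℕ × ℕ))
    (W : List (List ℕ)) (base : ℕ) (ops : List ℕ) (K : ℕ) :
    runH N nets tb iv Rv Rs W base [] ops K = runH N nets tb iv Rv Rs' W base [] ops K := by
  induction ops generalizing K with
  | nil => rfl
  | cons o t ih => exact ih _

theorem Reach.land {N : ℕ} {nets : List Net} {iv : ℕ → ℕ} {R : List (List ℕ × ℕ)} {W : List (List ℕ)} {base K K' : ℕ}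
    (h : Reach.{u} N nets iv R W base K) (e : Nat.beq (Nat.land K K') K' = true) : Reach.{u} N nets iv R W base K' := by
  intro Γ _ γ H a b c
  obtain ⟨c, h1, h2⟩ := h Γ γ H a b c
  refine ⟨c, h1, fun x p hp => h2 x p ?_⟩
  rw [← beq_tt.1 e, testBit_look, land_eq', Nat.testBit_and] at hp
  rw [testBit_look]
  simp_all

/-- The knowledge reached from the new relators. -/
def RN (K : ℕ) : Prop :=
  Reach.{u} 327680 nets iv (U_Rv ++ Rn) ([1,2,3,4,5,6,7,8,9,10,12].map fun x => [x]) 0 K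

theorem RN.run {K : ℕ} (h : RN.{u} K) (ops : List ℕ) : RN.{u} (runH 327680 nets (tbk 19 5 prs19 nets 4096) iv U_Rv U_Rs
    ([1,2,3,4,5,6,7,8,9,10,12].map fun x => [x]) 0 [] ops K) :=
  run_nil _ _ _ _ _ Rn U_Rs _ _ _ _ ▸
    reach_runH nets_ok (tbk_eq tr19 (by norm_num) (by norm_num) (by norm_num) nets_ok) U_rel h [] ops

theorem RN.st {K K' : ℕ} (h : RN.{u} K) {ops : List ℕ} (e : Nat.beq (runH 327680 nets (tbk 19 5 prs19 nets 4096) iv U_Rv U_Rs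
    ([1,2,3,4,5,6,7,8,9,10,12].map fun x => [x]) 0 [] ops K) K' = true) : RN.{u} K' := (h.run ops).of_beq e

theorem N_K0 : RN.{u} U_K0 := RN.st (reach_defsH nets_ok _ _ _ _ _ _) U_K0_eq

theorem N_K1 : RN.{u} U_K1 := N_K0.st U_K1_eq
theorem N_K2 : RN.{u} U_K2 := N_K1.st U_K2_eq
theorem N_K3 : RN.{u} U_K3 := N_K2.st U_K3_eq
theorem N_K4 : RN.{u} U_K4 := N_K3.st U_K4_eq
theorem N_K5 : RN.{u} U_K5 := N_K4.st U_K5_eq
theorem N_K6 : RN.{u} U_K6 := N_K5.st U_K6_eq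
theorem N_K7 : RN.{u} U_K7 := N_K6.st U_K7_eq
theorem N_K8 : RN.{u} U_K8 := N_K7.st U_K8_eq
theorem N_K9 : RN.{u} U_K9 := N_K8.st U_K9_eq
theorem N_K10 : RN.{u} U_K10 := N_K9.st U_K10_eq
theorem N_K11 : RN.{u} U_K11 := N_K10.st U_K11_eq
theorem N_K12 : RN.{u} U_K12 := N_K11.st U_K12_eq
theorem N_K13 : RN.{u} U_K13 := N_K12.st U_K13_eq
theorem N_K14 : RN.{u} U_K14 := N_K13.st U_K14_eq
theorem N_K15 : RN.{u} U_K15 := N_K14.st U_K15_eq
theorem N_K16 : RN.{u} U_K16 := N_K15.st U_K16_eq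
theorem N_K17 : RN.{u} U_K17 := N_K16.st U_K17_eq
theorem N_K18 : RN.{u} U_K18 := N_K17.st U_K18_eq
theorem N_K19 : RN.{u} U_K19 := N_K18.st U_K19_eq
theorem N_K20 : RN.{u} U_K20 := N_K19.st U_K20_eq
theorem N_K21 : RN.{u} U_K21 := N_K20.st U_K21_eq
theorem N_K22 : RN.{u} U_K22 := N_K21.st U_K22_eq
theorem N_K23 : RN.{u} U_K23 := N_K22.st U_K23_eq
theorem N_K24 : RN.{u} U_K24 := N_K23.st U_K24_eq
theorem N_K25 : RN.{u} U_K25 := N_K24.st U_K25_eq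
theorem N_K26 : RN.{u} U_K26 := N_K25.st U_K26_eq
theorem N_K27 : RN.{u} U_K27 := N_K26.st U_K27_eq
theorem N_K28 : RN.{u} U_K28 := N_K27.st U_K28_eq
theorem N_K29 : RN.{u} U_K29 := N_K28.st U_K29_eq
theorem N_K30 : RN.{u} U_K30 := N_K29.st U_K30_eq
theorem N_K31 : RN.{u} U_K31 := N_K30.st U_K31_eq
theorem N_K32 : RN.{u} U_K32 := N_K31.st U_K32_eq
theorem N_K33 : RN.{u} U_K33 := N_K32.st U_K33_eq
theorem N_K34 : RN.{u} U_K34 := N_K33.st U_K34_eq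
theorem N_K35 : RN.{u} U_K35 := N_K34.st U_K35_eq
theorem N_K36 : RN.{u} U_K36 := N_K35.st U_K36_eq
theorem N_K37 : RN.{u} U_K37 := N_K36.st U_K37_eq
theorem N_K38 : RN.{u} U_K38 := N_K37.st U_K38_eq
theorem N_K39 : RN.{u} U_K39 := N_K38.st U_K39_eq
theorem N_K40 : RN.{u} U_K40 := N_K39.st U_K40_eq
theorem N_K41 : RN.{u} U_K41 := N_K40.st U_K41_eq
theorem N_K42 : RN.{u} U_K42 := N_K41.st U_K42_eq
theorem N_K43 : RN.{u} U_K43 := N_K42.st U_K43_eq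
theorem N_K44 : RN.{u} U_K44 := N_K43.st U_K44_eq
theorem N_K45 : RN.{u} U_K45 := N_K44.st U_K45_eq
theorem N_K46 : RN.{u} U_K46 := N_K45.st U_K46_eq
theorem N_K47 : RN.{u} U_K47 := N_K46.st U_K47_eq
theorem N_K48 : RN.{u} U_K48 := N_K47.st U_K48_eq
theorem N_K49 : RN.{u} U_K49 := N_K48.st U_K49_eq
theorem N_K50 : RN.{u} U_K50 := N_K49.st U_K50_eq
theorem N_K51 : RN.{u} U_K51 := N_K50.st U_K51_eq
theorem N_K52 : RN.{u} U_K52 := N_K51.st U_K52_eq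
theorem N_K53 : RN.{u} U_K53 := N_K52.st U_K53_eq
theorem N_K54 : RN.{u} U_K54 := N_K53.st U_K54_eq
theorem N_K55 : RN.{u} U_K55 := N_K54.st U_K55_eq
theorem N_K56 : RN.{u} U_K56 := N_K55.st U_K56_eq
theorem N_K57 : RN.{u} U_K57 := N_K56.st U_K57_eq
theorem N_K58 : RN.{u} U_K58 := N_K57.st U_K58_eq
theorem N_K59 : RN.{u} U_K59 := N_K58.st U_K59_eq
theorem N_K60 : RN.{u} U_K60 := N_K59.st U_K60_eq
theorem N_K61 : RN.{u} U_K61 := N_K60.st U_K61_eq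
theorem N_K62 : RN.{u} U_K62 := N_K61.st U_K62_eq
theorem N_K63 : RN.{u} U_K63 := N_K62.st U_K63_eq
theorem N_K64 : RN.{u} U_K64 := N_K63.st U_K64_eq
theorem N_K65 : RN.{u} U_K65 := N_K64.st U_K65_eq
theorem N_K66 : RN.{u} U_K66 := N_K65.st U_K66_eq
theorem N_K67 : RN.{u} U_K67 := N_K66.st U_K67_eq
theorem N_K68 : RN.{u} U_K68 := N_K67.st U_K68_eq
theorem N_K69 : RN.{u} U_K69 := N_K68.st U_K69_eq
theorem N_K70 : RN.{u} U_K70 := N_K69.st U_K70_eq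
theorem N_K71 : RN.{u} U_K71 := N_K70.st U_K71_eq
theorem N_K72 : RN.{u} U_K72 := N_K71.st U_K72_eq

theorem Rn_rel : Rels (gp nets) Rn := base.rels tb_ok (by decide +kernel)

theorem N_K73_b : Nat.beq (Nat.land (runH 327680 nets (tbk 19 5 prs19 nets 4096) iv (apd U_Rv Rn) []
    ([1,2,3,4,5,6,7,8,9,10,12].map fun x => [x]) 0 [] [296,320] U_K72) U_K73) U_K73 = true := by decide +kernel

theorem N_K73 : RN.{u} U_K73 := by
  have h : Reach.{u} 327680 nets iv (U_Rv ++ Rn ++ []) ([1,2,3,4,5,6,7,8,9,10,12].map fun x => [x]) 0 U_K72 := by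
    rw [List.append_nil]; exact N_K72
  have := reach_runH.{u} nets_ok (tb := tbk 19 5 prs19 nets 4096)
    (tbk_eq tr19 (by norm_num) (by norm_num) (by norm_num) nets_ok) (U_rel.append Rn_rel) h [] [296,320]
  rw [List.append_nil, ← apd_eq] at this
  have := Reach.land this N_K73_b
  rwa [apd_eq] at this

theorem N_K74 : RN.{u} U_K74 := N_K73.st U_K74_eq
theorem N_K75 : RN.{u} U_K75 := N_K74.st U_K75_eq
theorem N_K76 : RN.{u} U_K76 := N_K75.st U_K76_eq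

theorem N_idx : Idx.{u} iv (U_Rv ++ Rn) (L1.map fun x => [x]) L 306936 :=
  Reach.idx nets_ok (N_K76.run _) U_fin (by norm_num)

noncomputable def N_R : List (List ℕ × ℕ) := (U_Rv ++ Rn) ++ [(12 :: pw [1,2,3,4,5,6,8] 8, 0)]

theorem N_ord : Ord.{u} iv N_R L (2 * 1255205709190661721292800) :=
  (N_idx.ord_step (L' := L1) (Ord.twist (R := N_R) (z := 12) Fi23.ord (by decide +kernel) (by decide))).of_cons
    ((cons_of_subset fun _ h => List.mem_append_left _ h).append (Cons.refl _ _))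

/-- The relators of `Fi₂₄'` involving the element of order three. -/
def N_R1 : List (List ℕ × ℕ) := [([11],2), ([2,11],1), ([3,11],1), ([4,11],1), ([5,11],1), ([6,11],1), ([7,11],1),
  ([8,11],1), ([9,11],1), ([10,11],1), ([1,11],2), ([1,12],2), ([11,12],0), (vw ++ [11], 1), (vw ++ [12], 1)]

theorem N_ord' : Ord.{u} F24p.iv (Fi23.R ++ N_R1) F24p.L 1255205709190661721292800 :=
  Ord.even (l := 12) N_ord (by decide) (by decide) (by decide) (by decide +kernel)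
    (cons_rot (by decide +kernel) (by decide +kernel))

theorem N_gq : Rels F24p.gq (Fi23.R ++ N_R1) := by
  obtain ⟨f, hi, -, hf⟩ := faith
  have h2 : Rels γ (R2 ++ Rn) := (R2_cons _ _ ok.ivOK (ok.rels hall)).append fun r hr => hi (by
    rw [map_pow, map_one, map_ev_of_gen fun x hx => hf x (sub_of_allR (by decide +kernel) r hr x hx), Rn_rel r hr])
  have h3 : ∀ r ∈ R2 ++ Rn, (∀ x ∈ r.1, x ∈ L) ∧ Even (r.1.length * (r.2 + 1)) := by decide +kernel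
  have k : ∀ b, Rels F24p.gq ((R2 ++ Rn).map fun r => (twl F24p.iv 12 b (rvp r.1 (r.2 + 1)).reverse, 0)) := fun b r hr => by
    obtain ⟨s, hs, rfl⟩ := List.mem_map.1 hr
    rw [zero_add, pow_one, F24p.ev_tw fun x hx => (h3 s hs).1 x (mem_rvp (List.mem_reverse.1 hx)), ev_rvp, h2 s hs,
      List.length_reverse, length_rvp, Nat.even_iff.1 (h3 s hs).2]
    cases b <;> simp [F24p.sq 12 (by norm_num)]
  exact cons_rot.{0} (by decide +kernel) (by decide +kernel) _ _ F24p.gq_iv ((k true).append (k false))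

end Cfsg.Lib.Comp.Fi24
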